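import Cfsg.Agent.L34C.PresR

set_option autoImplicit false
set_option Elab.async false
set_option maxRecDepth 100000
set_option linter.all false

namespace Cfsg.Agent.L34C
open Cfsg.Agent.CGT

noncomputable def ql0_n0 : Net := Net.cons 16 0xca00 <|
  Net.cons 8 0xc80090 <|
  Net.cons 4 0x4 <|
  Net.cons 2 0x220020 <|
  Net.cons 1 0x110041 <|
  Net.cons 2 0x222020 <|
  Net.cons 4 0x40104 <|
  Net.cons 8 0xca0090 <|
  Net.cons 16 0xca00 <|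
  Net.nil
noncomputable def ql0_n1 : Net := Net.cons 16 0xc00 <|
  Net.cons 8 0x80046 <|
  Net.cons 4 0x802 <|
  Net.cons 1 0x4000550 <|
  Net.cons 2 0x21300 <|
  Net.cons 4 0x10802 <|
  Net.cons 8 0x80046 <|
  Net.cons 16 0xc00 <|
  Net.nil
noncomputable def ql0_n2 : Net := Net.cons 16 0x200 <|
  Net.cons 8 0xa0 <|
  Net.cons 4 0x40c00 <|
  Net.cons 1 0x5400 <|
  Net.cons 2 0x103032 <|
  Net.cons 4 0x40c00 <|
  Net.cons 8 0x200a0 <|
  Net.cons 16 0x200 <|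
  Net.nil
noncomputable def ql0_n3 : Net := Net.cons 16 0x200 <|
  Net.cons 8 0x40040 <|
  Net.cons 4 0x20606 <|
  Net.cons 2 0x2000200 <|
  Net.cons 1 0x4100414 <|
  Net.cons 2 0x2001002 <|
  Net.cons 4 0x20606 <|
  Net.cons 8 0x400a8 <|
  Net.cons 16 0x200 <|
  Net.nil
noncomputable def ql0_n4 : Net := Net.cons 16 0x2b10 <|
  Net.cons 8 0x3c00d8 <|
  Net.cons 4 0x6080000 <|
  Net.cons 2 0x22000000 <|
  Net.cons 1 0x41000450 <|
  Net.cons 2 0x32201010 <|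
  Net.cons 4 0x60a0c00 <|
  Net.cons 8 0x3d0008 <|
  Net.cons 16 0x2b10 <|
  Net.nil
noncomputable def ql0_ns : List Net := [ql0_n0, ql0_n1, ql0_n2, ql0_n3, ql0_n4]
noncomputable def ql0_R : List (List ℕ) := [[0, 0], [2, 2], [4, 4], [6, 6], [8, 8, 8], [8, 6, 8, 6, 8, 6], [4, 6, 4, 6], [4, 8, 4, 8, 4, 8], [9, 4, 8, 6, 9, 4, 8, 6], [2, 4, 2, 4, 2, 4], [9, 2, 6, 9, 2, 6, 2, 8, 6], [4, 8, 2, 6, 4, 8, 2, 4, 6, 2, 9, 6], [0, 4, 0, 4, 0, 4], [6, 2, 0, 8, 0, 2, 9, 4], [2, 8, 2, 8], [2, 0, 2, 6, 2, 0, 2, 6]]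
noncomputable def ql0_S0 : List (List ℕ) := [[2], [4], [6], [8]]
noncomputable def ql0_E : Enum := ⟨ql0_ns, ql0_R, ql0_S0, [], 0⟩
theorem ql0_v : validAll (2 ^ 5) ql0_ns = true := by decide +kernel
theorem ql0_p0 : holdsB 5 ql0_ns ql0_R = true := by decide +kernel
theorem ql0_p : Holds (lp ql0_ns) ql0_R := holdsB_sound ql0_v ql0_p0
theorem ql0_f : allL ql0_E.Sub (fixN ql0_E.ns ql0_E.b0) = true := by decide +kernel
theorem ql0_r0 : ql0_E.run [2, 0, 10, 4, 18, 8, 26, 12, 34, 33, 38, 37, 2, 0, 10, 4, 18, 8, 34, 33, 38, 37, 16, 33, 24, 4124, 33, 3, 7, 11, 15, 33, 48, 12340, 33, 12348, 4152, 33, 4116, 12, 28, 8, 12320, 28724, 36, 56, 4, 4136, 4, 24616, 12340, 33, 16436, 0, 12348, 20, 33, 16, 33, 56, 4, 4132, 52, 12, 16436, 24, 8232, 8236, 4, 16428, 36908, 45100, 4116, 28, 4132, 48, 4120, 20, 33, 4116, 12, 28, 8, 4124, 33, 36, 48, 8244, 0, 16436] (1 <<< 0) (List.replicate 11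 0) (Enum.done 21 [0, 2, 4, 6, 8]) = true := by decide +kernel
theorem ql0_fin {G : Type*} [Group G] {γ : ℕ → G} (hR : Holds (ext γ) ql0_R) {H : Subgroup G}
    (hS : ∀ u ∈ ql0_S0, ev (ext γ) u ∈ H) : ql0_E.Fin γ H 21 [0, 2, 4, 6, 8] :=
  have hy : ql0_E.Hyp γ H := Enum.hyp_of ql0_v hR ql0_p hS ql0_f
  (Enum.fin_of_done hy (Enum.inv_init 11) ql0_r0)
noncomputable def ql1_n1 : Net := Net.cons 16 0x4400 <|
  Net.cons 8 0x40068 <|
  Net.cons 4 0x80a <|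
  Net.cons 2 0x2 <|
  Net.cons 1 0x4011 <|
  Net.cons 2 0x30020 <|
  Net.cons 4 0x4000a01 <|
  Net.cons 8 0x40068 <|
  Net.cons 16 0x4400 <|
  Net.nil
noncomputable def ql1_n2 : Net := Net.cons 16 0x1000 <|
  Net.cons 8 0x100038 <|
  Net.cons 4 0x2000c <|
  Net.cons 2 0x2002 <|
  Net.cons 1 0x101444 <|
  Net.cons 2 0x3120 <|
  Net.cons 4 0x20f02 <|
  Net.cons 8 0x100038 <|
  Net.cons 16 0x1000 <|
  Net.nil
noncomputable def ql1_n3 : Net := Net.cons 16 0x800 <|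
  Net.cons 8 0x8009e <|
  Net.cons 4 0x802 <|
  Net.cons 2 0x2202 <|
  Net.cons 1 0x4104 <|
  Net.cons 2 0x21132 <|
  Net.cons 4 0x702 <|
  Net.cons 8 0x8009e <|
  Net.cons 16 0x800 <|
  Net.nil
noncomputable def ql1_n4 : Net := Net.cons 16 0x4400 <|
  Net.cons 8 0x200e4 <|
  Net.cons 4 0x20a <|
  Net.cons 2 0x2000220 <|
  Net.cons 1 0x4044410 <|
  Net.cons 2 0x2011222 <|
  Net.cons 4 0x4000902 <|
  Net.cons 8 0x2007c <|
  Net.cons 16 0x4400 <|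
  Net.nil
noncomputable def ql1_ns : List Net := [Net.nil, ql1_n1, ql1_n2, ql1_n3, ql1_n4]
noncomputable def ql1_R : List (List ℕ) := [[2, 2], [4, 4], [6, 6], [8, 8, 8], [8, 6, 8, 6, 8, 6], [4, 6, 4, 6], [4, 8, 4, 8, 4, 8], [9, 4, 8, 6, 9, 4, 8, 6], [2, 4, 2, 4, 2, 4], [9, 2, 6, 9, 2, 6, 2, 8, 6], [4, 8, 2, 6, 4, 8, 2, 4, 6, 2, 9, 6], [2, 8, 2, 8]]
noncomputable def ql1_S0 : List (List ℕ) := [[4], [6], [8]]
noncomputable def ql1_E : Enum := ⟨ql1_ns, ql1_R, ql1_S0, [], 0⟩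
theorem ql1_v : validAll (2 ^ 5) ql1_ns = true := by decide +kernel
theorem ql1_p0 : holdsB 5 ql1_ns ql1_R = true := by decide +kernel
theorem ql1_p : Holds (lp ql1_ns) ql1_R := holdsB_sound ql1_v ql1_p0
theorem ql1_f : allL ql1_E.Sub (fixN ql1_E.ns ql1_E.b0) = true := by decide +kernel
theorem ql1_r0 : ql1_E.run [10, 0, 18, 4, 26, 8, 34, 33, 38, 37, 18, 4, 26, 8, 10, 0, 12, 33, 20, 4120, 33, 4140, 33, 3, 7, 11, 33, 4140, 33, 4112, 8, 24, 4, 32, 20, 4116, 44, 0, 28, 37, 12316, 12, 33, 4116, 4140, 33, 4132, 0, 8228, 24612, 4128, 40, 8232, 0, 12328, 36904, 4112, 24] (1 <<< 0) (List.replicate 11 0) (Enum.done 20 [2, 4, 6, 8]) = true := by decide +kernel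
theorem ql1_fin {G : Type*} [Group G] {γ : ℕ → G} (hR : Holds (ext γ) ql1_R) {H : Subgroup G}
    (hS : ∀ u ∈ ql1_S0, ev (ext γ) u ∈ H) : ql1_E.Fin γ H 20 [2, 4, 6, 8] :=
  have hy : ql1_E.Hyp γ H := Enum.hyp_of ql1_v hR ql1_p hS ql1_f
  (Enum.fin_of_done hy (Enum.inv_init 11) ql1_r0)
noncomputable def ql2_n2 : Net := Net.cons 1 0x5 <|
  Net.nil
noncomputable def ql2_n4 : Net := Net.cons 1 0x4 <|
  Net.cons 2 0x2 <|
  Net.nil
noncomputable def ql2_ns : List Net := [Net.nil, Net.nil, ql2_n2, Net.nil, ql2_n4]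
noncomputable def ql2_R : List (List ℕ) := [[4, 4], [6, 6], [8, 8, 8], [8, 6, 8, 6, 8, 6], [4, 6, 4, 6], [4, 8, 4, 8, 4, 8], [9, 4, 8, 6, 9, 4, 8, 6]]
noncomputable def ql2_S0 : List (List ℕ) := [[6], [8]]
noncomputable def ql2_E : Enum := ⟨ql2_ns, ql2_R, ql2_S0, [], 0⟩
theorem ql2_v : validAll (2 ^ 3) ql2_ns = true := by decide +kernel
theorem ql2_p0 : holdsB 3 ql2_ns ql2_R = true := by decide +kernel
theorem ql2_p : Holds (lp ql2_ns) ql2_R := holdsB_sound ql2_v ql2_p0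
theorem ql2_f : allL ql2_E.Sub (fixN ql2_E.ns ql2_E.b0) = true := by decide +kernel
theorem ql2_r0 : ql2_E.run [18, 0, 34, 33, 38, 37, 8, 33, 3, 7, 33, 4112, 20, 0, 12312] (1 <<< 0) (List.replicate 11 0) (Enum.done 4 [4, 6, 8]) = true := by decide +kernel
theorem ql2_fin {G : Type*} [Group G] {γ : ℕ → G} (hR : Holds (ext γ) ql2_R) {H : Subgroup G}
    (hS : ∀ u ∈ ql2_S0, ev (ext γ) u ∈ H) : ql2_E.Fin γ H 4 [4, 6, 8] :=
  have hy : ql2_E.Hyp γ H := Enum.hyp_of ql2_v hR ql2_p hS ql2_f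
  (Enum.fin_of_done hy (Enum.inv_init 11) ql2_r0)
noncomputable def ql3_n3 : Net := Net.cons 1 0x5 <|
  Net.nil
noncomputable def ql3_n4 : Net := Net.cons 1 0x4 <|
  Net.cons 2 0x2 <|
  Net.nil
noncomputable def ql3_ns : List Net := [Net.nil, Net.nil, Net.nil, ql3_n3, ql3_n4]
noncomputable def ql3_R : List (List ℕ) := [[6, 6], [8, 8, 8], [8, 6, 8, 6, 8, 6]]
noncomputable def ql3_S0 : List (List ℕ) := [[8]]
noncomputable def ql3_E : Enum := ⟨ql3_ns, ql3_R, ql3_S0, [], 0⟩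
theorem ql3_v : validAll (2 ^ 3) ql3_ns = true := by decide +kernel
theorem ql3_p0 : holdsB 3 ql3_ns ql3_R = true := by decide +kernel
theorem ql3_p : Holds (lp ql3_ns) ql3_R := holdsB_sound ql3_v ql3_p0
theorem ql3_f : allL ql3_E.Sub (fixN ql3_E.ns ql3_E.b0) = true := by decide +kernel
theorem ql3_r0 : ql3_E.run [26, 0, 34, 33, 38, 37, 4, 33, 3, 33, 4104, 0] (1 <<< 0) (List.replicate 11 0) (Enum.done 4 [6, 8]) = true := by decide +kernel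
theorem ql3_fin {G : Type*} [Group G] {γ : ℕ → G} (hR : Holds (ext γ) ql3_R) {H : Subgroup G}
    (hS : ∀ u ∈ ql3_S0, ev (ext γ) u ∈ H) : ql3_E.Fin γ H 4 [6, 8] :=
  have hy : ql3_E.Hyp γ H := Enum.hyp_of ql3_v hR ql3_p hS ql3_f
  (Enum.fin_of_done hy (Enum.inv_init 11) ql3_r0)
noncomputable def ql4_n4 : Net := Net.cons 2 0x2 <|
  Net.cons 1 0x4 <|
  Net.cons 2 0x3 <|
  Net.nil
noncomputable def ql4_ns : List Net := [Net.nil, Net.nil, Net.nil, Net.nil, ql4_n4]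
noncomputable def ql4_R : List (List ℕ) := [[8, 8, 8]]
noncomputable def ql4_S0 : List (List ℕ) := []
noncomputable def ql4_E : Enum := ⟨ql4_ns, ql4_R, ql4_S0, [], 0⟩
theorem ql4_v : validAll (2 ^ 3) ql4_ns = true := by decide +kernel
theorem ql4_p0 : holdsB 3 ql4_ns ql4_R = true := by decide +kernel
theorem ql4_p : Holds (lp ql4_ns) ql4_R := holdsB_sound ql4_v ql4_p0
theorem ql4_f : allL ql4_E.Sub (fixN ql4_E.ns ql4_E.b0) = true := by decide +kernel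
theorem ql4_r0 : ql4_E.run [34, 33, 38, 37, 0, 33] (1 <<< 0) (List.replicate 11 0) (Enum.done 3 [8]) = true := by decide +kernel
theorem ql4_fin {G : Type*} [Group G] {γ : ℕ → G} (hR : Holds (ext γ) ql4_R) {H : Subgroup G}
    (hS : ∀ u ∈ ql4_S0, ev (ext γ) u ∈ H) : ql4_E.Fin γ H 3 [8] :=
  have hy : ql4_E.Hyp γ H := Enum.hyp_of ql4_v hR ql4_p hS ql4_f
  (Enum.fin_of_done hy (Enum.inv_init 11) ql4_r0)
theorem qbd4 {G : Type*} [Group G] {γ : ℕ → G} (hR : Holds (ext γ) qRR) : Bd (gp γ [8]) 3 :=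
  Bd.step (ql4_fin (hR.subR (by decide +kernel)) (wordsIn_sound γ (L := []) (by decide +kernel))) (Bd.gp_nil γ) (by norm_num)
theorem qbd3 {G : Type*} [Group G] {γ : ℕ → G} (hR : Holds (ext γ) qRR) : Bd (gp γ [6, 8]) 12 :=
  Bd.step (ql3_fin (hR.subR (by decide +kernel)) (wordsIn_sound γ (L := [8]) (by decide +kernel))) (qbd4 hR) (by norm_num)
theorem qbd2 {G : Type*} [Group G] {γ : ℕ → G} (hR : Holds (ext γ) qRR) : Bd (gp γ [4, 6, 8]) 48 :=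
  Bd.step (ql2_fin (hR.subR (by decide +kernel)) (wordsIn_sound γ (L := [6, 8]) (by decide +kernel))) (qbd3 hR) (by norm_num)
theorem qbd1 {G : Type*} [Group G] {γ : ℕ → G} (hR : Holds (ext γ) qRR) : Bd (gp γ [2, 4, 6, 8]) 960 :=
  Bd.step (ql1_fin (hR.subR (by decide +kernel)) (wordsIn_sound γ (L := [4, 6, 8]) (by decide +kernel))) (qbd2 hR) (by norm_num)
theorem qbd0 {G : Type*} [Group G] {γ : ℕ → G} (hR : Holds (ext γ) qRR) : Bd (gp γ [0, 2, 4, 6, 8]) 20160 :=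
  Bd.step (ql0_fin (hR.subR (by decide +kernel)) (wordsIn_sound γ (L := [2, 4, 6, 8]) (by decide +kernel))) (qbd1 hR) (by norm_num)

end Cfsg.Agent.L34C
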