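import Cfsg.Agent.CGT.Act

set_option autoImplicit false
set_option Elab.async false
set_option maxRecDepth 100000
set_option linter.all false

namespace Cfsg.Agent.L34C
open Cfsg.Agent.CGT

noncomputable def m_n0 : Net := Net.cons 16 0x2008 <|
  Net.cons 8 0x200048 <|
  Net.cons 2 0x20202 <|
  Net.cons 1 0x14101 <|
  Net.cons 2 0x21302 <|
  Net.cons 4 0x20d02 <|
  Net.cons 8 0x200048 <|
  Net.cons 16 0x200c <|
  Net.nil
noncomputable def m_n1 : Net := Net.cons 16 0x4404 <|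
  Net.cons 8 0x460058 <|
  Net.cons 4 0x606 <|
  Net.cons 2 0x2000000 <|
  Net.cons 1 0x4001001 <|
  Net.cons 2 0x2110310 <|
  Net.cons 4 0x606 <|
  Net.cons 8 0x460058 <|
  Net.cons 16 0x4404 <|
  Net.nil
noncomputable def m_n2 : Net := Net.cons 16 0x4000 <|
  Net.cons 8 0x400040 <|
  Net.cons 2 0x133320 <|
  Net.cons 4 0x50500 <|
  Net.cons 8 0x400040 <|
  Net.cons 16 0x4000 <|
  Net.nil
noncomputable def m_n3 : Net := Net.cons 16 0x9e0 <|
  Net.cons 2 0x2000200 <|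
  Net.cons 1 0x1555400 <|
  Net.cons 2 0x2333200 <|
  Net.cons 4 0x60600 <|
  Net.cons 8 0x90000 <|
  Net.cons 16 0x9e0 <|
  Net.nil
noncomputable def m_n4 : Net := Net.cons 16 0xfe00 <|
  Net.cons 8 0xe000c0 <|
  Net.cons 4 0xc000c0c <|
  Net.cons 2 0x20 <|
  Net.cons 1 0x40440410 <|
  Net.cons 2 0x10110130 <|
  Net.cons 4 0xc0a0c0c <|
  Net.cons 8 0xfe00c0 <|
  Net.cons 16 0xfe00 <|
  Net.nil
noncomputable def m_ns : List Net := [m_n0, m_n1, m_n2, m_n3, m_n4]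
noncomputable def m_R : List (List ℕ) := [[0, 0], [2, 2], [4, 4], [6, 6]]
noncomputable def m_t0 : Tab := (.leaf 0xffbbcdeb38bdab4309a343a2a0312f3cc24848ab)
noncomputable def m_t2 : Tab := (.leaf 0xffbbcdeb38bdaae9b04a7d0725c0863a0096c425)
noncomputable def m_t4 : Tab := (.leaf 0xffbbcdeb38bdab28d26e6c1ea4b1662a0e418820)
noncomputable def m_t6 : Tab := (.leaf 0xffbbcdeb38bdaa7414cb6254f835d3a464418820)
noncomputable def m_t8 : Tab := (.leaf 0xffbbcdeb38bdaab531339522f741a7320a220c20)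
noncomputable def m_t9 : Tab := (.leaf 0xffbbcdeb38bdaae83daa62d32a4e2641ca311020)
noncomputable def m_ts : List Tab := [m_t0, m_t0, m_t2, m_t2, m_t4, m_t4, m_t6, m_t6, m_t8, m_t9]
theorem m_v : validAll (2 ^ 5) m_ns = true := by decide +kernel
theorem m_p : Holds (lp m_ns) m_R := holdsB_sound m_v (by decide +kernel)
theorem m_t0_b : Tab.beq (mkTab 5 0 m_ns 0) m_t0 = true := by decide +kernel
theorem m_t2_b : Tab.beq (mkTab 5 0 m_ns 2) m_t2 = true := by decide +kernel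
theorem m_t4_b : Tab.beq (mkTab 5 0 m_ns 4) m_t4 = true := by decide +kernel
theorem m_t6_b : Tab.beq (mkTab 5 0 m_ns 6) m_t6 = true := by decide +kernel
theorem m_t8_b : Tab.beq (mkTab 5 0 m_ns 8) m_t8 = true := by decide +kernel
theorem m_t9_b : Tab.beq (mkTab 5 0 m_ns 9) m_t9 = true := by decide +kernel
theorem m_ts_ok : TabsOK 5 (lp m_ns) m_ts :=
  TabsFrom.ok ⟨TabOK.of_beq m_v m_t0_b,
    TabOK.next (j := 0) (TabOK.of_beq m_v m_t0_b) m_p (by decide +kernel),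
    TabOK.of_beq m_v m_t2_b,
    TabOK.next (j := 1) (TabOK.of_beq m_v m_t2_b) m_p (by decide +kernel),
    TabOK.of_beq m_v m_t4_b,
    TabOK.next (j := 2) (TabOK.of_beq m_v m_t4_b) m_p (by decide +kernel),
    TabOK.of_beq m_v m_t6_b,
    TabOK.next (j := 3) (TabOK.of_beq m_v m_t6_b) m_p (by decide +kernel),
    TabOK.of_beq m_v m_t8_b,
    TabOK.of_beq m_v m_t9_b,
    Nat.le_of_ble_eq_true (by decide +kernel)⟩

end Cfsg.Agent.L34C
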